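import Groth.Prelude.Def_DiffOp
import Mathlib

/-!
Basic theory of the differential operators of `Groth.Prelude.Def_DiffOp`.
-/

universe u v

open scoped TensorProduct

namespace Groth.DiffOps

section basics

variable {A B : Type u} [CommRing A] [CommRing B] [Algebra A B]
variable {M N P : Type v} [AddCommGroup M] [Module A M] [Module B M] [IsScalarTower A B M]
  [AddCommGroup N] [Module A N] [Module B N] [IsScalarTower A B N]
  [AddCommGroup P] [Module A P] [Module B P] [IsScalarTower A B P]

/-- scalar multiplication as an `A`-linear map -/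
noncomputable def mulMap (A : Type u) {B : Type u} [CommRing A] [CommRing B] [Algebra A B]
    (M : Type v) [AddCommGroup M] [Module A M] [Module B M] [IsScalarTower A B M] (b : B) :
    M →ₗ[A] M :=
  (LinearMap.lsmul B M b).restrictScalars A

@[simp] lemma mulMap_apply (b : B) (m : M) : mulMap A M b m = b • m := rfl

@[simp] lemma commutator_apply (D : M →ₗ[A] N) (b : B) (m : M) :
    Diff16.commutator A B M N D b m = D (b • m) - b • D m := rfl

@[simp] lemma linearize_tmul (D : M →ₗ[A] N) (b : B) (m : M) :
    Diff16.linearize A B M N D (b ⊗ₜ m) = b • D m := rfl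

lemma isDiffOpLE_zero_iff (D : M →ₗ[A] N) :
    Diff16.IsDiffOpLE A B M N 0 D ↔ ∀ (b : B) (m : M), D (b • m) = b • D m := Iff.rfl

lemma isDiffOpLE_succ_iff (n : ℕ) (D : M →ₗ[A] N) :
    Diff16.IsDiffOpLE A B M N (n + 1) D ↔
      ∀ b : B, Diff16.IsDiffOpLE A B M N n (Diff16.commutator A B M N D b) := Iff.rfl

lemma zero_mem : ∀ n, Diff16.IsDiffOpLE A B M N n 0
  | 0 => fun b m => by simp
  | n + 1 => fun b => by
      have : Diff16.commutator A B M N (0 : M →ₗ[A] N) b = 0 := by ext; simp
      rw [this]; exact zero_mem n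

lemma succ_mem : ∀ (n : ℕ) {D : M →ₗ[A] N}, Diff16.IsDiffOpLE A B M N n D →
    Diff16.IsDiffOpLE A B M N (n + 1) D
  | 0, D, h => fun b => by
      have : Diff16.commutator A B M N D b = 0 := by
        ext m; simp [(isDiffOpLE_zero_iff D).1 h b m]
      rw [this]; exact zero_mem 0
  | n + 1, D, h => fun b => succ_mem n (h b)

lemma mono {n m : ℕ} (hnm : n ≤ m) {D : M →ₗ[A] N} (h : Diff16.IsDiffOpLE A B M N n D) :
    Diff16.IsDiffOpLE A B M N m D := by
  induction hnm with
  | refl => exact h
  | step _ ih => exact succ_mem _ ih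

lemma add_mem : ∀ (n : ℕ) {D D' : M →ₗ[A] N}, Diff16.IsDiffOpLE A B M N n D →
    Diff16.IsDiffOpLE A B M N n D' → Diff16.IsDiffOpLE A B M N n (D + D')
  | 0, D, D', h, h' => fun b m => by
      simp [(isDiffOpLE_zero_iff D).1 h b m, (isDiffOpLE_zero_iff D').1 h' b m]
  | n + 1, D, D', h, h' => fun b => by
      have : Diff16.commutator A B M N (D + D') b =
          Diff16.commutator A B M N D b + Diff16.commutator A B M N D' b := by
        ext m; simp; abel
      rw [this]; exact add_mem n (h b) (h' b)

lemma smul_mem : ∀ (n : ℕ) (c : B) {D : M →ₗ[A] N}, Diff16.IsDiffOpLE A B M N n D →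
    Diff16.IsDiffOpLE A B M N n (c • D)
  | 0, c, D, h => fun b m => by
      simp [(isDiffOpLE_zero_iff D).1 h b m, smul_comm c b]
  | n + 1, c, D, h => fun b => by
      have : Diff16.commutator A B M N (c • D) b = c • Diff16.commutator A B M N D b := by
        ext m; simp [smul_sub, smul_comm c b]
      rw [this]; exact smul_mem n c (h b)

lemma neg_mem (n : ℕ) {D : M →ₗ[A] N} (h : Diff16.IsDiffOpLE A B M N n D) :
    Diff16.IsDiffOpLE A B M N n (-D) := by
  have : -D = (-1 : B) • D := by ext m; simp
  rw [this]; exact smul_mem n _ h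

lemma sub_mem (n : ℕ) {D D' : M →ₗ[A] N} (h : Diff16.IsDiffOpLE A B M N n D)
    (h' : Diff16.IsDiffOpLE A B M N n D') : Diff16.IsDiffOpLE A B M N n (D - D') := by
  rw [sub_eq_add_neg]; exact add_mem n h (neg_mem n h')

lemma sum_mem (n : ℕ) {ι : Type*} (s : Finset ι) (D : ι → M →ₗ[A] N)
    (h : ∀ i ∈ s, Diff16.IsDiffOpLE A B M N n (D i)) :
    Diff16.IsDiffOpLE A B M N n (∑ i ∈ s, D i) := by
  classical
  induction s using Finset.induction_on with
  | empty => simpa using zero_mem (A := A) (B := B) (M := M) (N := N) n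
  | insert i s hi ih =>
    rw [Finset.sum_insert hi]
    exact add_mem n (h i (Finset.mem_insert_self i s))
      (ih fun j hj => h j (Finset.mem_insert_of_mem hj))

lemma linearMap_comp : ∀ (n : ℕ) (g : N →ₗ[B] P) {D : M →ₗ[A] N},
    Diff16.IsDiffOpLE A B M N n D → Diff16.IsDiffOpLE A B M P n (g.restrictScalars A ∘ₗ D)
  | 0, g, D, h => fun b m => by
      simp [(isDiffOpLE_zero_iff D).1 h b m]
  | n + 1, g, D, h => fun b => by
      have : Diff16.commutator A B M P (g.restrictScalars A ∘ₗ D) b =
          g.restrictScalars A ∘ₗ Diff16.commutator A B M N D b := by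
        ext m; simp
      rw [this]; exact linearMap_comp n g (h b)

lemma comp_linearMap : ∀ (n : ℕ) {D : N →ₗ[A] P} (g : M →ₗ[B] N),
    Diff16.IsDiffOpLE A B N P n D → Diff16.IsDiffOpLE A B M P n (D ∘ₗ g.restrictScalars A)
  | 0, D, g, h => fun b m => by
      simp [(isDiffOpLE_zero_iff D).1 h b (g m)]
  | n + 1, D, g, h => fun b => by
      have : Diff16.commutator A B M P (D ∘ₗ g.restrictScalars A) b =
          Diff16.commutator A B N P D b ∘ₗ g.restrictScalars A := by
        ext m; simp
      rw [this]; exact comp_linearMap n g (h b)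

lemma eq_restrictScalars {D : M →ₗ[A] N} (h : Diff16.IsDiffOpLE A B M N 0 D) :
    ∃ g : M →ₗ[B] N, g.restrictScalars A = D :=
  ⟨{ toFun := D, map_add' := map_add D, map_smul' := h }, rfl⟩

lemma comp_mem : ∀ (k n n' : ℕ), n + n' = k → ∀ {D : M →ₗ[A] N} {D' : N →ₗ[A] P},
    Diff16.IsDiffOpLE A B M N n D → Diff16.IsDiffOpLE A B N P n' D' →
    Diff16.IsDiffOpLE A B M P k (D' ∘ₗ D)
  | 0, n, n', hk, D, D', h, h' => by
      obtain ⟨rfl, rfl⟩ : n = 0 ∧ n' = 0 := by omega
      obtain ⟨g, rfl⟩ := eq_restrictScalars h'
      exact linearMap_comp 0 g h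
  | k + 1, n, n', hk, D, D', h, h' => by
      rcases n' with - | n'
      · obtain ⟨g, rfl⟩ := eq_restrictScalars h'
        exact mono (by omega) (linearMap_comp n g h)
      rcases n with - | n
      · obtain ⟨g, rfl⟩ := eq_restrictScalars h
        exact mono (by omega) (comp_linearMap (n' + 1) g h')
      intro b
      have : Diff16.commutator A B M P (D' ∘ₗ D) b =
          D' ∘ₗ Diff16.commutator A B M N D b + Diff16.commutator A B N P D' b ∘ₗ D := by
        ext m; simp
      rw [this]
      exact add_mem k (comp_mem k n (n' + 1) (by omega) (h b) h')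
        (comp_mem k (n + 1) n' (by omega) h (h' b))

lemma commutator_algebraMap (D : M →ₗ[A] N) (a : A) :
    Diff16.commutator A B M N D (algebraMap A B a) = 0 := by
  ext m; simp

lemma commutator_mul (D : M →ₗ[A] N) (b c : B) :
    Diff16.commutator A B M N D (b * c) =
      Diff16.commutator A B M N D b ∘ₗ (LinearMap.lsmul B M c).restrictScalars A +
        b • Diff16.commutator A B M N D c := by
  ext m; simp [mul_smul, smul_sub]

lemma commutator_add (D : M →ₗ[A] N) (b c : B) :
    Diff16.commutator A B M N D (b + c) =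
      Diff16.commutator A B M N D b + Diff16.commutator A B M N D c := by
  ext m; simp [add_smul]; abel

/-- scalars whose commutator with `D` has order at most `n` -/
noncomputable def goodScalars (n : ℕ) (D : M →ₗ[A] N) : Subalgebra A B where
  carrier := {b | Diff16.IsDiffOpLE A B M N n (Diff16.commutator A B M N D b)}
  mul_mem' {b c} hb hc := by
    simp only [Set.mem_setOf_eq, commutator_mul]
    exact add_mem n (comp_linearMap n _ hb) (smul_mem n b hc)
  add_mem' {b c} hb hc := by
    simp only [Set.mem_setOf_eq, commutator_add]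
    exact add_mem n hb hc
  algebraMap_mem' a := by
    simp only [Set.mem_setOf_eq, commutator_algebraMap]
    exact zero_mem n

lemma succ_of_generators {s : Set B} (hs : Algebra.adjoin A s = ⊤) (n : ℕ) (D : M →ₗ[A] N)
    (hD : ∀ g ∈ s, Diff16.IsDiffOpLE A B M N n (Diff16.commutator A B M N D g)) :
    Diff16.IsDiffOpLE A B M N (n + 1) D := fun b => by
  have h : Algebra.adjoin A s ≤ goodScalars n D := Algebra.adjoin_le hD
  rw [hs] at h
  exact h (Algebra.mem_top (x := b))

/-- the alternating sum `∑_H (-1)^|H| (∏_{H} b) • D ((∏_{Hᶜ} b) • t)` -/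
noncomputable def altSum {ι : Type*} [Fintype ι] [DecidableEq ι] (D : M →ₗ[A] N) (b : ι → B)
    (t : M) : N :=
  ∑ H : Finset ι, ((-1 : ℤ) ^ H.card) • ((∏ i ∈ H, b i) • D ((∏ i ∈ Hᶜ, b i) • t))

end basics

section altsum

variable {A B : Type u} [CommRing A] [CommRing B] [Algebra A B]
variable {M N : Type v} [AddCommGroup M] [Module A M] [Module B M] [IsScalarTower A B M]
  [AddCommGroup N] [Module A N] [Module B N] [IsScalarTower A B N]

lemma altSum_succ (D : M →ₗ[A] N) {n : ℕ} (b : Fin (n + 1) → B) (t : M) :
    altSum D b t = altSum (Diff16.commutator A B M N D (b 0)) (fun i : Fin n => b i.succ) t := by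
  classical
  unfold altSum
  let e : Finset (Fin n) ≃ Finset (Fin n) := Equiv.refl _
  have huniv : (Finset.univ : Finset (Fin (n+1))) =
      insert 0 ((Finset.univ : Finset (Fin n)).map ⟨Fin.succ, Fin.succ_injective n⟩) := by
    ext x; cases x using Fin.cases <;> simp
  have h0 : ∀ H : Finset (Fin n), (0 : Fin (n+1)) ∉ H.map ⟨Fin.succ, Fin.succ_injective n⟩ := by
    intro H; simp
  have hc1 : ∀ H : Finset (Fin n), (H.map ⟨Fin.succ, Fin.succ_injective n⟩)ᶜ =
      insert 0 (Hᶜ.map ⟨Fin.succ, Fin.succ_injective n⟩) := by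
    intro H; ext x; cases x using Fin.cases <;> simp
  have hc2 : ∀ H : Finset (Fin n), (insert 0 (H.map ⟨Fin.succ, Fin.succ_injective n⟩))ᶜ =
      Hᶜ.map ⟨Fin.succ, Fin.succ_injective n⟩ := by
    intro H; ext x; cases x using Fin.cases <;> simp
  rw [← Finset.powerset_univ, huniv, Finset.sum_powerset_insert (by simp)]
  rw [Finset.map_eq_image, Finset.powerset_image, Finset.sum_image, Finset.sum_image,
    ← Finset.sum_add_distrib, Finset.powerset_univ]
  · refine Finset.sum_congr rfl fun H _ => ?_
    have hm : H.image Fin.succ = H.map ⟨Fin.succ, Fin.succ_injective n⟩ :=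
      (Finset.map_eq_image ⟨Fin.succ, Fin.succ_injective n⟩ H).symm
    simp only [Function.Embedding.coeFn_mk, hm]
    rw [hc1, hc2, Finset.card_insert_of_notMem (h0 H), Finset.prod_insert (h0 H),
      Finset.prod_insert (h0 _)]
    simp only [Finset.prod_map, Finset.card_map, Function.Embedding.coeFn_mk, pow_succ,
      mul_smul, commutator_apply, smul_sub]
    rw [smul_comm (b 0) (∏ i ∈ H, b i.succ)]
    simp [sub_eq_add_neg]
  all_goals exact fun x _ y _ h => Finset.image_injective (Fin.succ_injective n) h

lemma iff_altSum (n : ℕ) (D : M →ₗ[A] N) :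
    Diff16.IsDiffOpLE A B M N n D ↔ ∀ (b : Fin (n + 1) → B) (t : M), altSum D b t = 0 := by
  induction n generalizing D with
  | zero =>
    have key : ∀ (E : M →ₗ[A] N) (c : Fin 0 → B) (t : M), altSum E c t = E t := by
      intro E c t
      simp [altSum, Finset.eq_empty_of_isEmpty]
    constructor
    · intro h b t
      rw [altSum_succ, key]
      simp [(isDiffOpLE_zero_iff D).1 h]
    · intro h b m
      have := h (fun _ => b) m
      rw [altSum_succ, key] at this
      simpa [sub_eq_zero] using this
  | succ n ih =>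
    rw [isDiffOpLE_succ_iff]
    simp only [ih]
    constructor
    · intro h b t
      rw [altSum_succ]; exact h _ _ _
    · intro h b0 b t
      have := h (Fin.cons b0 b) t
      rw [altSum_succ] at this
      simpa using this

end altsum

section linearize

variable {A B : Type u} [CommRing A] [CommRing B] [Algebra A B]

/-- `1 ⊗ b - b ⊗ 1` -/
noncomputable def del (A : Type u) {B : Type u} [CommRing A] [CommRing B] [Algebra A B] (b : B) :
    B ⊗[A] B :=
  (1 : B) ⊗ₜ[A] b - b ⊗ₜ[A] (1 : B)

lemma linearize_commutator {N : Type u} [AddCommGroup N] [Module A N] [Module B N]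
    [IsScalarTower A B N] (D : B →ₗ[A] N) (b : B) (x : B ⊗[A] B) :
    Diff16.linearize A B B N (Diff16.commutator A B B N D b) x =
      Diff16.linearize A B B N D (del A b * x) := by
  induction x using TensorProduct.induction_on with
  | zero => simp
  | tmul c m => simp [del, sub_mul, smul_sub, mul_smul, smul_comm b c]
  | add x y hx hy => simp [mul_add, hx, hy]

lemma iff_linearize {N : Type u} [AddCommGroup N] [Module A N] [Module B N]
    [IsScalarTower A B N] (n : ℕ) (D : B →ₗ[A] N) :
    Diff16.IsDiffOpLE A B B N n D ↔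
      ∀ x ∈ (KaehlerDifferential.ideal A B) ^ (n + 1), Diff16.linearize A B B N D x = 0 := by
  induction n generalizing D with
  | zero =>
    rw [zero_add, pow_one]
    constructor
    · intro h x hx
      rw [← KaehlerDifferential.span_range_eq_ideal] at hx
      obtain ⟨g, rfl⟩ := eq_restrictScalars h
      refine Submodule.span_induction (p := fun x _ => ∀ y,
        Diff16.linearize A B B N (g.restrictScalars A) (x * y) = 0) ?_ ?_ ?_ ?_ hx 1
        |> fun h => by simpa using h
      · rintro _ ⟨b, rfl⟩ y
        induction y using TensorProduct.induction_on with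
        | zero => simp
        | tmul c m =>
          have : g (b * m) = b • g m := by rw [← smul_eq_mul, map_smul]
          simp [sub_mul, this, mul_smul, smul_comm b c]
        | add a b ha hb => simp [mul_add, ha, hb]
      · simp
      · intro a b _ _ ha hb y; simp [add_mul, ha y, hb y]
      · intro r a _ ha y; rw [smul_eq_mul, mul_comm r, mul_assoc]; exact ha _
    · intro h b m
      have hmem : del A b * ((1 : B) ⊗ₜ[A] m) ∈ KaehlerDifferential.ideal A B :=
        Ideal.mul_mem_right _ _ (KaehlerDifferential.one_smul_sub_smul_one_mem_ideal A b)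
      have := h _ hmem
      simpa [del, sub_mul, sub_eq_zero] using this
  | succ n ih =>
    rw [isDiffOpLE_succ_iff]
    simp only [ih, linearize_commutator]
    constructor
    · intro h x hx
      rw [pow_succ' _ (n + 1)] at hx
      refine Submodule.mul_induction_on hx ?_ ?_
      · intro a ha y hy
        rw [← KaehlerDifferential.span_range_eq_ideal] at ha
        refine Submodule.span_induction (p := fun a _ => ∀ y ∈ (KaehlerDifferential.ideal A B) ^ (n + 1),
          Diff16.linearize A B B N D (a * y) = 0) ?_ ?_ ?_ ?_ ha y hy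
        · rintro _ ⟨b, rfl⟩ y hy; exact h b y hy
        · simp
        · intro a b _ _ ha hb y hy; simp [add_mul, ha y hy, hb y hy]
        · intro r a _ ha y hy
          rw [smul_eq_mul, mul_comm r, mul_assoc]; exact ha _ (Ideal.mul_mem_left _ _ hy)
      · intro a b ha hb; simp [ha, hb]
    · intro h b x hx
      apply h
      rw [pow_succ' _ (n + 1)]
      exact Ideal.mul_mem_mul (KaehlerDifferential.one_smul_sub_smul_one_mem_ideal A b) hx

end linearize

end Groth.DiffOps
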